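import Mathlib
import Cfsg.Prelude
import Cfsg.Agent.Lib.Helper7.GolayC46

set_option autoImplicit false

namespace Cfsg.Agent.Lib.Helper7

open scoped Pointwise

/-- a word sending the base points to `b0, b1, b3, b2, 5` -/
def gcWI5 : List ℕ := [1, 0, 2, 0, 2, 0, 0, 1, 0, 2, 0, 2, 0, 2, 0, 1, 0, 1, 0, 1, 0, 1, 2, 0, 2, 0, 2, 0, 0]

/-- a word sending the base points to `b0, b1, b3, b2, 4` -/
def gcWI4 : List ℕ := [1, 1, 0, 2, 2, 0, 0, 0, 0, 0, 2, 2, 0, 0, 0, 0]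

/-- a word sending the base points to `b0, b1, b2, b4, 5` -/
def gcWT5 : List ℕ := [2, 2, 2, 2, 0, 2, 0, 2, 0, 2, 2, 2, 0, 0, 0, 2, 0, 0, 0, 2, 0, 0, 0, 0, 2, 0, 2, 2, 2, 0, 0, 0, 2, 2, 0, 2, 2, 2]

/-- a word sending the base points to `b0, b1, b2, b4, 4` -/
def gcWT4 : List ℕ := [2, 2, 2, 0, 2, 0, 2, 2, 2, 2, 0, 2, 2, 2, 2, 0, 0, 0, 2, 0, 2, 0, 0, 2, 2, 2, 0, 2, 2, 0, 0, 2, 2, 0, 2]

/-- a word sending the base points to `b1, b0, b3, b2, 4` -/
def gcWS : List ℕ := [2, 2, 0, 2, 2, 0, 2, 2, 0, 0, 0, 0, 2, 2, 0, 2, 0, 2, 2, 0, 1, 0, 2, 0, 0, 0, 0, 2, 0, 2, 0, 0, 0, 0, 2, 0]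

theorem gc_wi5_tab : gcEval gcWI5 (gcBase 0) = gcBase 0 ∧ gcEval gcWI5 (gcBase 1) = gcBase 1 ∧
    gcEval gcWI5 (gcBase 2) = gcBase 3 ∧ gcEval gcWI5 (gcBase 3) = gcBase 2 ∧
    gcEval gcWI5 (gcBase 4) = 5 := by
  decide +kernel

theorem gc_wi4_tab : gcEval gcWI4 (gcBase 0) = gcBase 0 ∧ gcEval gcWI4 (gcBase 1) = gcBase 1 ∧
    gcEval gcWI4 (gcBase 2) = gcBase 3 ∧ gcEval gcWI4 (gcBase 3) = gcBase 2 ∧
    gcEval gcWI4 (gcBase 4) = 4 := by
  decide +kernel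

theorem gc_wt5_tab : gcEval gcWT5 (gcBase 0) = gcBase 0 ∧ gcEval gcWT5 (gcBase 1) = gcBase 1 ∧
    gcEval gcWT5 (gcBase 2) = gcBase 2 ∧ gcEval gcWT5 (gcBase 3) = gcBase 4 ∧
    gcEval gcWT5 (gcBase 4) = 5 := by
  decide +kernel

theorem gc_wt4_tab : gcEval gcWT4 (gcBase 0) = gcBase 0 ∧ gcEval gcWT4 (gcBase 1) = gcBase 1 ∧
    gcEval gcWT4 (gcBase 2) = gcBase 2 ∧ gcEval gcWT4 (gcBase 3) = gcBase 4 ∧
    gcEval gcWT4 (gcBase 4) = 4 := by
  decide +kernel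

theorem gc_ws_tab : gcEval gcWS (gcBase 0) = gcBase 1 ∧ gcEval gcWS (gcBase 1) = gcBase 0 ∧
    gcEval gcWS (gcBase 2) = gcBase 3 ∧ gcEval gcWS (gcBase 3) = gcBase 2 ∧
    gcEval gcWS (gcBase 4) = 4 := by
  decide +kernel

/-- involutions in the two cosets have eight fixed points -/
theorem gc_inv_tab5 : ∀ u v : Fin 24, gcO0.testBit u.val = true → gcF5.testBit u.val = false →
    gcO0.testBit v.val = false →
    (∀ a : Fin 24, gcEval (gcWI5 ++ gcW48 u.val v.val)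
      (gcEval (gcWI5 ++ gcW48 u.val v.val) a) = a) →
    (Finset.univ.filter (fun a : Fin 24 => gcEval (gcWI5 ++ gcW48 u.val v.val) a = a)).card = 8 := by
  decide +kernel

theorem gc_inv_tab4 : ∀ u v : Fin 24, gcO0.testBit u.val = true → gcF5.testBit u.val = false →
    gcO0.testBit v.val = false →
    (∀ a : Fin 24, gcEval (gcWI4 ++ gcW48 u.val v.val)
      (gcEval (gcWI4 ++ gcW48 u.val v.val) a) = a) →
    (Finset.univ.filter (fun a : Fin 24 => gcEval (gcWI4 ++ gcW48 u.val v.val) a = a)).card = 8 := by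
  decide +kernel

/-- elements of order three in the two cosets have six fixed points -/
theorem gc_tri_tab5 : ∀ u v : Fin 24, gcO0.testBit u.val = true → gcF5.testBit u.val = false →
    gcO0.testBit v.val = false →
    (∀ a : Fin 24, gcEval (gcWT5 ++ gcW48 u.val v.val) (gcEval (gcWT5 ++ gcW48 u.val v.val)
      (gcEval (gcWT5 ++ gcW48 u.val v.val) a)) = a) →
    (Finset.univ.filter (fun a : Fin 24 => gcEval (gcWT5 ++ gcW48 u.val v.val) a = a)).card = 6 := by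
  decide +kernel

theorem gc_tri_tab4 : ∀ u v : Fin 24, gcO0.testBit u.val = true → gcF5.testBit u.val = false →
    gcO0.testBit v.val = false →
    (∀ a : Fin 24, gcEval (gcWT4 ++ gcW48 u.val v.val) (gcEval (gcWT4 ++ gcW48 u.val v.val)
      (gcEval (gcWT4 ++ gcW48 u.val v.val) a)) = a) →
    (Finset.univ.filter (fun a : Fin 24 => gcEval (gcWT4 ++ gcW48 u.val v.val) a = a)).card = 6 := by
  decide +kernel

/-- no fixed-point-free involution of the coset commutes with a nontrivial element fixing the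
base points and the point 4 -/
theorem gc_comm_tab : ∀ u v u' : Fin 24, gcO0.testBit u.val = true → gcF5.testBit u.val = false →
    gcO0.testBit v.val = false → gcO0.testBit u'.val = true → gcF5.testBit u'.val = false →
    u' ≠ 5 →
    (∀ a : Fin 24, gcEval (gcWS ++ gcW48 u.val v.val) (gcEval (gcWS ++ gcW48 u.val v.val) a) = a) →
    (∀ a : Fin 24, gcEval (gcWS ++ gcW48 u.val v.val) a ≠ a) →
    ¬ (∀ a : Fin 24, gcEval (gcWS ++ gcW48 u.val v.val) (gcEval (gcW48 u'.val 4) a) =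
      gcEval (gcW48 u'.val 4) (gcEval (gcWS ++ gcW48 u.val v.val) a)) := by
  decide +kernel

end Cfsg.Agent.Lib.Helper7
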