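import Mathlib
import Cfsg.Prelude
import Cfsg.Agent.Lib.Helper7.GolayC7

set_option autoImplicit false

namespace Cfsg.Agent.Lib.Helper7

open scoped Pointwise

theorem gc_perm_code_gen (σ : Equiv.Perm Cfsg.GolayPt)
    (h : ∀ t, (fun p => Cfsg.qrWord t (σ.symm p)) ∈ Cfsg.golayCode)
    (w : Cfsg.GolayPt → ZMod 2) (hw : w ∈ Cfsg.golayCode) :
    (fun p => w (σ.symm p)) ∈ Cfsg.golayCode := by
  have hle : Submodule.span (ZMod 2) (Set.range Cfsg.qrWord ∪ {1}) ≤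
      Submodule.comap (LinearMap.funLeft (ZMod 2) (ZMod 2) σ.symm) Cfsg.golayCode := by
    rw [Submodule.span_le]
    rintro c (⟨t, rfl⟩ | hc)
    · exact h t
    · rw [Set.mem_singleton_iff] at hc
      subst hc
      exact gc_one_mem
  exact hle hw

theorem gc_M24_of_code (σ : Equiv.Perm Cfsg.GolayPt)
    (h : ∀ w ∈ Cfsg.golayCode, (fun p => w (σ.symm p)) ∈ Cfsg.golayCode) : σ ∈ Cfsg.M24 := by
  have h1 : ∀ b ∈ Cfsg.supports (Cfsg.golayCode : Set (Cfsg.GolayPt → ZMod 2)),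
      σ • b ∈ Cfsg.supports (Cfsg.golayCode : Set (Cfsg.GolayPt → ZMod 2)) := by
    intro b hb
    rw [gc_supp_iff] at hb ⊢
    rw [gc_ind_smul]
    exact h _ hb
  show σ ∈ MulAction.stabilizer (Equiv.Perm Cfsg.GolayPt)
    (Cfsg.supports (Cfsg.golayCode : Set (Cfsg.GolayPt → ZMod 2)))
  rw [MulAction.mem_stabilizer_iff]
  apply Set.eq_of_subset_of_ncard_le
  · rintro _ ⟨b, hb, rfl⟩
    exact h1 b hb
  · rw [← Set.image_smul, Set.ncard_image_of_injective _ (MulAction.injective σ)]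
  · exact Set.toFinite _

theorem gc_M24_of_gen (σ : Equiv.Perm Cfsg.GolayPt)
    (h : ∀ t, (fun p => Cfsg.qrWord t (σ.symm p)) ∈ Cfsg.golayCode) : σ ∈ Cfsg.M24 :=
  gc_M24_of_code σ (gc_perm_code_gen σ h)

theorem gc_qr_mem (t : ZMod 23) : Cfsg.qrWord t ∈ Cfsg.golayCode :=
  Submodule.subset_span (Or.inl ⟨t, rfl⟩)

theorem gc_shift_mem : Equiv.optionCongr (Equiv.addRight (1 : ZMod 23)) ∈ Cfsg.M24 := by
  apply gc_M24_of_gen
  intro t
  have e : (fun p => Cfsg.qrWord t ((Equiv.optionCongr (Equiv.addRight (1 : ZMod 23))).symm p)) =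
      Cfsg.qrWord (t + 1) := by
    funext p
    cases p with
    | none => rfl
    | some x =>
      show Cfsg.qrWord t (some (x + -1)) = Cfsg.qrWord (t + 1) (some x)
      have hiff : (∃ r : ZMod 23, x + -1 = r ^ 2 + t) ↔ (∃ r : ZMod 23, x = r ^ 2 + (t + 1)) := by
        constructor
        · rintro ⟨r, hr⟩; exact ⟨r, by linear_combination hr⟩
        · rintro ⟨r, hr⟩; exact ⟨r, by linear_combination hr⟩
      simp only [Cfsg.qrWord, hiff]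
  rw [e]
  exact gc_qr_mem _

theorem gc_mul_mem (u : (ZMod 23)ˣ) (hu : IsSquare u) :
    Equiv.optionCongr (Units.mulLeft u) ∈ Cfsg.M24 := by
  obtain ⟨s, hs⟩ := hu
  apply gc_M24_of_gen
  intro t
  have e : (fun p => Cfsg.qrWord t ((Equiv.optionCongr (Units.mulLeft u)).symm p)) =
      Cfsg.qrWord ((u : ZMod 23) * t) := by
    funext p
    cases p with
    | none => rfl
    | some x =>
      show Cfsg.qrWord t (some (((u⁻¹ : (ZMod 23)ˣ) : ZMod 23) * x)) =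
        Cfsg.qrWord ((u : ZMod 23) * t) (some x)
      have huu : (u : ZMod 23) * ((u⁻¹ : (ZMod 23)ˣ) : ZMod 23) = 1 := Units.mul_inv u
      have huu' : ((u⁻¹ : (ZMod 23)ˣ) : ZMod 23) * (u : ZMod 23) = 1 := Units.inv_mul u
      have hus : (u : ZMod 23) = (s : ZMod 23) * (s : ZMod 23) := by rw [hs]; simp
      have huinv : ((u⁻¹ : (ZMod 23)ˣ) : ZMod 23) =
          ((s⁻¹ : (ZMod 23)ˣ) : ZMod 23) * ((s⁻¹ : (ZMod 23)ˣ) : ZMod 23) := by
        rw [hs]; simp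
      have hiff : (∃ r : ZMod 23, ((u⁻¹ : (ZMod 23)ˣ) : ZMod 23) * x = r ^ 2 + t) ↔
          (∃ r : ZMod 23, x = r ^ 2 + (u : ZMod 23) * t) := by
        constructor
        · rintro ⟨r, hr⟩
          exact ⟨(s : ZMod 23) * r, by linear_combination (-x) * huu + (u : ZMod 23) * hr + r ^ 2 * hus⟩
        · rintro ⟨r, hr⟩
          exact ⟨((s⁻¹ : (ZMod 23)ˣ) : ZMod 23) * r, by
            linear_combination ((u⁻¹ : (ZMod 23)ˣ) : ZMod 23) * hr + r ^ 2 * huinv + t * huu'⟩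
      simp only [Cfsg.qrWord, hiff]
  rw [e]
  exact gc_qr_mem _

/-- index table of the permutation -/
def gcProjL : List ℕ := [23, 22, 11, 15, 17, 9, 19, 13, 20, 5, 16, 2, 21, 7, 18, 3, 10, 4, 14, 6, 8, 12, 1, 0]

/-- generator combinations for the images -/
def gcProjT : ℕ → List (ZMod 23)
  | 0 => [0]
  | 1 => [4, 5, 6, 8, 10]
  | 2 => [1, 5, 6, 7, 9]
  | 3 => [0, 2, 3, 4, 5, 7, 8, 10]
  | 4 => [0, 1, 2, 4, 5, 8, 9]
  | 5 => [0, 9]
  | 6 => [1, 3, 4, 5, 9, 10]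
  | 7 => [1, 2, 3, 5, 6, 8]
  | 8 => [2, 4, 7, 9, 10]
  | 9 => [0, 5]
  | 10 => [1, 3, 4, 7, 8]
  | 11 => [0, 2]
  | 12 => [3, 6, 7, 8, 9, 10]
  | 13 => [0, 7]
  | 14 => [0, 2, 3, 5, 6, 9, 10]
  | 15 => [0, 3]
  | 16 => [0, 10]
  | 17 => [0, 4]
  | 18 => [0, 1, 2, 3, 4, 6, 7, 9]
  | 19 => [0, 6]
  | 20 => [0, 8]
  | 21 => [0, 1, 2, 6, 7, 8, 10]
  | 22 => [0, 1]
  | _ => []

/-- whether the all-ones word is added -/
def gcProjE : ℕ → ZMod 2
  | 0 => 1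
  | 1 => 0
  | 2 => 0
  | 3 => 0
  | 4 => 0
  | 5 => 1
  | 6 => 0
  | 7 => 1
  | 8 => 0
  | 9 => 0
  | 10 => 1
  | 11 => 1
  | 12 => 0
  | 13 => 0
  | 14 => 1
  | 15 => 1
  | 16 => 0
  | 17 => 1
  | 18 => 0
  | 19 => 1
  | 20 => 1
  | 21 => 1
  | 22 => 1
  | _ => 0

/-- index table of the permutation -/
def gcCubeL : List ℕ := [0, 18, 6, 3, 2, 21, 1, 5, 16, 12, 7, 19, 8, 9, 17, 15, 13, 11, 4, 22, 10, 20, 14, 23]

/-- generator combinations for the images -/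
def gcCubeT : ℕ → List (ZMod 23)
  | 0 => [0]
  | 1 => [0, 3, 4, 7, 8]
  | 2 => [0, 1, 4, 7, 8]
  | 3 => [1, 2, 6, 7, 10]
  | 4 => [2, 3]
  | 5 => [2, 3, 8, 10]
  | 6 => [0, 1, 2, 3, 5, 6]
  | 7 => [1, 2, 4, 8, 10]
  | 8 => [2, 9]
  | 9 => [4, 6]
  | 10 => [1, 3, 4, 9, 10]
  | 11 => [0, 2, 3, 4, 5, 7, 8]
  | 12 => [0, 2, 3, 5, 6, 8]
  | 13 => [1, 3, 5, 7, 8, 9]
  | 14 => [0, 3, 5, 6, 7, 8]
  | 15 => [0, 2, 3, 4, 6, 8]
  | 16 => [6, 9]
  | 17 => [1, 2, 3, 4, 6, 8, 9, 10]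
  | 18 => [2, 3, 4, 5, 6, 9, 10]
  | 19 => [2, 4, 9, 10]
  | 20 => [1, 6, 7, 9]
  | 21 => [4, 5, 6, 7, 8, 10]
  | 22 => [4, 5, 6, 8]
  | _ => []

/-- whether the all-ones word is added -/
def gcCubeE : ℕ → ZMod 2
  | 0 => 0
  | 1 => 0
  | 2 => 0
  | 3 => 0
  | 4 => 0
  | 5 => 0
  | 6 => 0
  | 7 => 0
  | 8 => 0
  | 9 => 0
  | 10 => 0
  | 11 => 0
  | 12 => 0
  | 13 => 0
  | 14 => 0
  | 15 => 0
  | 16 => 0
  | 17 => 0
  | 18 => 0
  | 19 => 0
  | 20 => 0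
  | 21 => 0
  | 22 => 0
  | _ => 0


/-- index permutation for `projInv` -/
def gcProj (a : Fin 24) : Fin 24 := Fin.ofNat 24 (gcProjL.getD a.val 0)

/-- index permutation for `cubeTwist` -/
def gcCube (a : Fin 24) : Fin 24 := Fin.ofNat 24 (gcCubeL.getD a.val 0)

set_option maxRecDepth 100000 in
theorem gc_proj_pt : ∀ a : Fin 24, Cfsg.projInv (gcPt a) = gcPt (gcProj a) := by
  decide

set_option maxRecDepth 100000 in
theorem gc_cube_pt : ∀ a : Fin 24, Cfsg.cubeTwistFun (gcPt a) = gcPt (gcCube a) := by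
  decide

theorem gc_proj_tab : ∀ t : ZMod 23, ∀ a : Fin 24, gcB2z (gcTb t (gcProj a)) =
    ((gcProjT t.val).map (fun s => gcB2z (gcTb s a))).sum + gcProjE t.val := by
  decide +kernel

theorem gc_cube_tab : ∀ t : ZMod 23, ∀ a : Fin 24, gcB2z (gcTb t (gcCube a)) =
    ((gcCubeT t.val).map (fun s => gcB2z (gcTb s a))).sum + gcCubeE t.val := by
  decide +kernel

theorem gc_projInv_mem : Cfsg.projInv ∈ Cfsg.M24 := by
  apply gc_M24_of_gen
  intro t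
  have e : (fun p => Cfsg.qrWord t (Cfsg.projInv.symm p)) =
      gcComb (gcProjT t.val) (gcProjE t.val) := by
    funext p
    obtain ⟨a, rfl⟩ := gcEquiv.surjective p
    show Cfsg.qrWord t (Cfsg.projInv (gcPt a)) = gcComb (gcProjT t.val) (gcProjE t.val) (gcPt a)
    unfold gcComb
    simp only [gc_proj_pt, gc_bridge]
    exact gc_proj_tab t a
  rw [e]
  exact gc_comb_mem _ _

theorem gc_cubeTwist_mem : Cfsg.cubeTwist ∈ Cfsg.M24 := by
  have h : Cfsg.cubeTwist⁻¹ ∈ Cfsg.M24 := by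
    apply gc_M24_of_gen
    intro t
    have e : (fun p => Cfsg.qrWord t ((Cfsg.cubeTwist⁻¹).symm p)) =
        gcComb (gcCubeT t.val) (gcCubeE t.val) := by
      funext p
      obtain ⟨a, rfl⟩ := gcEquiv.surjective p
      show Cfsg.qrWord t (Cfsg.cubeTwistFun (gcPt a)) =
        gcComb (gcCubeT t.val) (gcCubeE t.val) (gcPt a)
      unfold gcComb
      simp only [gc_cube_pt, gc_bridge]
      exact gc_cube_tab t a
    rw [e]
    exact gc_comb_mem _ _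
  exact inv_mem_iff.mp h

end Cfsg.Agent.Lib.Helper7
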