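import Mathlib
import Cfsg.Prelude

set_option autoImplicit false

namespace Cfsg.Agent.Lib.Helper7

section
variable {H : Type*} [Group H]

theorem pg_orderOf_conj (y z : H) : orderOf (y * z * y⁻¹) = orderOf z := by
  have h : y * z * y⁻¹ = MulAut.conj y z := by rw [MulAut.conj_apply]
  rw [h, MulEquiv.orderOf_eq]

/-- Commuting nontrivial `p`- and `q`-elements give an element of order `p * q`. -/
theorem pg_exists_order_mul [Finite H] (p q : ℕ) (hp : p.Prime) (hq : q.Prime) (hpq : p ≠ q)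
    (a b : H) (hab : Commute a b)
    (ha1 : a ≠ 1) (ha : ∃ i : ℕ, a ^ (p ^ i) = 1) (hb1 : b ≠ 1) (hb : ∃ j : ℕ, b ^ (q ^ j) = 1) :
    ∃ y : H, orderOf y = p * q := by
  haveI := Fact.mk hp
  haveI := Fact.mk hq
  obtain ⟨i, hi⟩ := ha
  obtain ⟨j, hj⟩ := hb
  have hpa : p ∣ Nat.card (Subgroup.zpowers a) := by
    rw [Nat.card_zpowers]
    obtain ⟨k, hk, hk'⟩ := (Nat.dvd_prime_pow hp).mp (orderOf_dvd_of_pow_eq_one hi)
    rw [hk']
    have hk0 : k ≠ 0 := by
      rintro rfl
      rw [pow_zero, orderOf_eq_one_iff] at hk'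
      exact ha1 hk'
    exact dvd_pow_self p hk0
  have hqb : q ∣ Nat.card (Subgroup.zpowers b) := by
    rw [Nat.card_zpowers]
    obtain ⟨k, hk, hk'⟩ := (Nat.dvd_prime_pow hq).mp (orderOf_dvd_of_pow_eq_one hj)
    rw [hk']
    have hk0 : k ≠ 0 := by
      rintro rfl
      rw [pow_zero, orderOf_eq_one_iff] at hk'
      exact hb1 hk'
    exact dvd_pow_self q hk0
  obtain ⟨a', ha'⟩ := exists_prime_orderOf_dvd_card' p hpa
  obtain ⟨b', hb'⟩ := exists_prime_orderOf_dvd_card' q hqb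
  have hcomm : Commute (a' : H) (b' : H) := by
    obtain ⟨m, hm⟩ := Subgroup.mem_zpowers_iff.mp a'.2
    obtain ⟨n, hn⟩ := Subgroup.mem_zpowers_iff.mp b'.2
    rw [← hm, ← hn]
    exact (hab.zpow_zpow m n)
  have hcop : (orderOf (a' : H)).Coprime (orderOf (b' : H)) := by
    rw [Subgroup.orderOf_coe, Subgroup.orderOf_coe, ha', hb']
    exact (Nat.coprime_primes hp hq).mpr hpq
  refine ⟨(a' : H) * b', ?_⟩
  rw [hcomm.orderOf_mul_eq_mul_orderOf_of_coprime hcop, Subgroup.orderOf_coe,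
    Subgroup.orderOf_coe, ha', hb']

/-- Configuration lemma: a normal nontrivial `p`-subgroup `P`, a nontrivial `q`-subgroup `Q` and
an element `z` of order `r` normalizing `Q` force an element of order `pq`, `pr` or `qr`. -/
theorem pg_config [Finite H] (p q r : ℕ) (hp : p.Prime) (hq : q.Prime) (hr : r.Prime)
    (hpq : p ≠ q) (hpr : p ≠ r) (hqr : q ≠ r)
    (P : Subgroup H) [hPn : P.Normal] (hP : IsPGroup p P) (hP1 : P ≠ ⊥)
    (Q : Subgroup H) (hQ : IsPGroup q Q) (hQ1 : Q ≠ ⊥) (z : H) (hz : orderOf z = r)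
    (hzQ : ∀ x ∈ Q, z * x * z⁻¹ ∈ Q) :
    (∃ x : H, orderOf x = p * q) ∨ (∃ x : H, orderOf x = p * r) ∨
      (∃ x : H, orderOf x = q * r) := by
  classical
  by_contra hcon
  push Not at hcon
  obtain ⟨h1, h2, h3⟩ := hcon
  haveI := Fact.mk hp
  haveI := Fact.mk hq
  haveI := Fact.mk hr
  obtain ⟨V, hVdef⟩ : ∃ V : Subgroup H, V = P ⊓ Subgroup.centralizer (P : Set H) := ⟨_, rfl⟩
  haveI hVn : V.Normal := by rw [hVdef]; infer_instance
  have hVmem : ∀ x : H, x ∈ V ↔ x ∈ P ∧ ∀ y ∈ P, y * x = x * y := by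
    intro x
    rw [hVdef, Subgroup.mem_inf, Subgroup.mem_centralizer_iff]
    rfl
  have hVP : V ≤ P := fun x hx => ((hVmem x).mp hx).1
  have hVcomm : ∀ a b : V, a * b = b * a := by
    intro a b
    apply Subtype.ext
    exact ((hVmem b).mp b.2).2 a (hVP a.2)
  letI : CommGroup V := { (inferInstance : Group V) with mul_comm := hVcomm }
  have hV1 : ∃ v : V, v ≠ 1 := by
    haveI : Nontrivial P := (Subgroup.nontrivial_iff_ne_bot P).mpr hP1
    haveI := hP.center_nontrivial
    obtain ⟨c, hc⟩ := exists_ne (1 : Subgroup.center P)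
    have hcV : ((c : P) : H) ∈ V := by
      rw [hVmem]
      refine ⟨(c : P).2, ?_⟩
      intro y hy
      have h0 := Subgroup.mem_center_iff.mp c.2 ⟨y, hy⟩
      exact congrArg Subtype.val h0
    refine ⟨⟨_, hcV⟩, ?_⟩
    intro h
    apply hc
    have h0 : ((c : P) : H) = 1 := congrArg Subtype.val h
    exact Subtype.ext (Subtype.ext h0)
  have hVp : ∀ v : V, ∃ i : ℕ, (v : H) ^ (p ^ i) = 1 := by
    intro v
    obtain ⟨i, hi⟩ := hP ⟨v, hVP v.2⟩
    exact ⟨i, congrArg Subtype.val hi⟩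
  have hQq : ∀ x ∈ Q, ∃ j : ℕ, x ^ (q ^ j) = 1 := by
    intro x hx
    obtain ⟨j, hj⟩ := hQ ⟨x, hx⟩
    exact ⟨j, congrArg Subtype.val hj⟩
  obtain ⟨c, hcdef⟩ : ∃ c : H →* MulAut V, c = MulAut.conjNormal := ⟨_, rfl⟩
  have hc_apply : ∀ (g : H) (v : V), ((c g v : V) : H) = g * v * g⁻¹ := by
    intro g v; rw [hcdef]; exact MulAut.conjNormal_apply g v
  have hc_mul : ∀ (g h : H) (v : V), c g (c h v) = c (g * h) v := by
    intro g h v; rw [map_mul]; rfl
  have hc_congr : ∀ (g h : H) (v : V), g = h → c g v = c h v := by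
    intro g h v e; rw [e]
  have hcomm_of : ∀ (g : H) (t : V), c g t = t → Commute (t : H) g := by
    intro g t hgt
    have h0 := congrArg Subtype.val hgt
    rw [hc_apply] at h0
    show (t : H) * g = g * t
    calc (t : H) * g = (g * t * g⁻¹) * g := by rw [h0]
      _ = g * t := by group
  have invQ : ∀ t : V, (∃ h ∈ Q, h ≠ 1 ∧ c h t = t) → t = 1 := by
    rintro t ⟨h, hhQ, hh1, hht⟩
    by_contra ht1
    obtain ⟨y, hy⟩ := pg_exists_order_mul p q hp hq hpq (t : H) h (hcomm_of h t hht)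
      (fun e => ht1 (Subtype.ext e)) (hVp t) hh1 (hQq h hhQ)
    exact h1 y hy
  have hr_elt : ∀ g : H, orderOf g = r → g ≠ 1 ∧ ∃ j : ℕ, g ^ (r ^ j) = 1 := by
    intro g hg
    constructor
    · rintro rfl
      rw [orderOf_one] at hg
      exact hr.one_lt.ne' hg.symm
    · exact ⟨1, by rw [pow_one, ← hg]; exact pow_orderOf_eq_one g⟩
  have invR : ∀ t : V, (∃ g : H, orderOf g = r ∧ c g t = t) → t = 1 := by
    rintro t ⟨g, hg, hgt⟩
    by_contra ht1
    obtain ⟨y, hy⟩ := pg_exists_order_mul p r hp hr hpr (t : H) g (hcomm_of g t hgt)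
      (fun e => ht1 (Subtype.ext e)) (hVp t) (hr_elt g hg).1 (hr_elt g hg).2
    exact h2 y hy
  haveI : Fintype Q := Fintype.ofFinite Q
  haveI : Fintype (Subgroup.zpowers z) := Fintype.ofFinite _
  obtain ⟨v, hv⟩ := hV1
  obtain ⟨x₀, hx₀Q, hx₀1⟩ : ∃ x ∈ Q, x ≠ 1 := by
    by_contra hcon
    push Not at hcon
    apply hQ1
    rw [eq_bot_iff]
    intro x hx
    rw [Subgroup.mem_bot]
    exact hcon x hx
  have hA : ∏ x : Q, c (x : H) v = 1 := by
    apply invQ
    refine ⟨x₀, hx₀Q, hx₀1, ?_⟩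
    rw [map_prod]
    rw [← Equiv.prod_comp (Equiv.mulLeft (⟨x₀, hx₀Q⟩ : Q)) (fun x : Q => c (x : H) v)]
    apply Finset.prod_congr rfl
    intro x _
    rw [hc_mul]; rfl
  have hB : ∀ y : Q, ∏ u : Subgroup.zpowers z, c ((y : H) * u * (y : H)⁻¹) v = 1 := by
    intro y
    apply invR
    refine ⟨(y : H) * z * (y : H)⁻¹, by rw [pg_orderOf_conj, hz], ?_⟩
    rw [map_prod]
    rw [← Equiv.prod_comp (Equiv.mulLeft (⟨z, Subgroup.mem_zpowers z⟩ : Subgroup.zpowers z))
      (fun u : Subgroup.zpowers z => c ((y : H) * u * (y : H)⁻¹) v)]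
    apply Finset.prod_congr rfl
    intro u _
    rw [hc_mul]
    apply hc_congr
    show (y : H) * z * (y : H)⁻¹ * ((y : H) * u * (y : H)⁻¹) = (y : H) * (z * u) * (y : H)⁻¹
    group
  have hT : ∏ u : Subgroup.zpowers z, ∏ x : Q, c ((x : H) * u) v = 1 := by
    apply invQ
    refine ⟨x₀, hx₀Q, hx₀1, ?_⟩
    rw [map_prod]
    apply Finset.prod_congr rfl
    intro u _
    rw [map_prod]
    rw [← Equiv.prod_comp (Equiv.mulLeft (⟨x₀, hx₀Q⟩ : Q)) (fun x : Q => c ((x : H) * u) v)]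
    apply Finset.prod_congr rfl
    intro x _
    rw [hc_mul]
    apply hc_congr
    show x₀ * ((x : H) * u) = x₀ * x * u
    group
  -- powers of z normalize Q
  have hpowQ : ∀ n : ℕ, ∀ x ∈ Q, z ^ n * x * (z ^ n)⁻¹ ∈ Q := by
    intro n
    induction n with
    | zero => intro x hx; simpa using hx
    | succ n ih =>
      intro x hx
      have h0 : z ^ (n + 1) * x * (z ^ (n + 1))⁻¹ = z * (z ^ n * x * (z ^ n)⁻¹) * z⁻¹ := by
        rw [pow_succ']; group
      rw [h0]
      exact hzQ _ (ih x hx)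
  have hnormQ : ∀ u ∈ Subgroup.zpowers z, ∀ x ∈ Q, u * x * u⁻¹ ∈ Q := by
    intro u hu
    rw [← mem_powers_iff_mem_zpowers] at hu
    obtain ⟨n, rfl⟩ := (Submonoid.mem_powers_iff _ _).mp hu
    exact hpowQ n
  have hu_elt : ∀ u : Subgroup.zpowers z, u ≠ 1 → (u : H) ≠ 1 ∧ ∃ j : ℕ, (u : H) ^ (r ^ j) = 1 := by
    intro u hu
    refine ⟨fun e => hu (Subtype.ext e), 1, ?_⟩
    rw [pow_one]
    have h0 : orderOf (u : H) ∣ r := by
      rw [Subgroup.orderOf_coe]
      have h00 := orderOf_dvd_natCard u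
      rwa [Nat.card_zpowers, hz] at h00
    exact orderOf_dvd_iff_pow_eq_one.mp h0
  have hinner : ∀ u : Subgroup.zpowers z, ∏ x : Q, c ((x : H) * u) v =
      (∏ y : Q, c ((y : H) * u * (y : H)⁻¹) v) * (if u = 1 then (v⁻¹) ^ (Fintype.card Q) else 1) := by
    intro u
    by_cases hu : u = 1
    · rw [if_pos hu, hu]
      have e1 : ∏ x : Q, c ((x : H) * ((1 : Subgroup.zpowers z) : H)) v = 1 := by
        rw [← hA]
        apply Finset.prod_congr rfl
        intro x _
        apply hc_congr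
        simp
      have e2 : ∏ y : Q, c ((y : H) * ((1 : Subgroup.zpowers z) : H) * (y : H)⁻¹) v =
          v ^ (Fintype.card Q) := by
        have e3 : ∀ y ∈ (Finset.univ : Finset Q),
            c ((y : H) * ((1 : Subgroup.zpowers z) : H) * (y : H)⁻¹) v = v := by
          intro y _
          have e4 : (y : H) * ((1 : Subgroup.zpowers z) : H) * (y : H)⁻¹ = 1 := by simp
          rw [e4, map_one]; rfl
        rw [Finset.prod_congr rfl e3, Finset.prod_const, Finset.card_univ]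
      rw [e1, e2, inv_pow, mul_inv_cancel]
    · rw [if_neg hu, mul_one]
      have hmemQ : ∀ y : Q, (y : H) * u * (y : H)⁻¹ * (u : H)⁻¹ ∈ Q := by
        intro y
        have h0 : (y : H) * u * (y : H)⁻¹ * (u : H)⁻¹ = y * ((u : H) * (y : H)⁻¹ * (u : H)⁻¹) := by
          group
        rw [h0]
        exact Q.mul_mem y.2 (hnormQ u u.2 _ (Q.inv_mem y.2))
      have hinj : Function.Injective (fun y : Q => (⟨_, hmemQ y⟩ : Q)) := by
        intro y y' hyy
        have h0 : (y : H) * u * (y : H)⁻¹ * (u : H)⁻¹ = (y' : H) * u * (y' : H)⁻¹ * (u : H)⁻¹ :=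
          congrArg Subtype.val hyy
        have h00 := mul_right_cancel h0
        by_contra hne
        have hd1 : (y' : H)⁻¹ * y ≠ 1 := by
          intro e
          apply hne
          apply Subtype.ext
          calc (y : H) = y' * ((y' : H)⁻¹ * y) := by group
            _ = y' := by rw [e, mul_one]
        have hdQ : (y' : H)⁻¹ * y ∈ Q := Q.mul_mem (Q.inv_mem y'.2) y.2
        have hcm : Commute ((y' : H)⁻¹ * y) (u : H) := by
          show (y' : H)⁻¹ * y * u = u * ((y' : H)⁻¹ * y)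
          calc (y' : H)⁻¹ * y * u = (y' : H)⁻¹ * ((y : H) * u * (y : H)⁻¹) * y := by group
            _ = (y' : H)⁻¹ * ((y' : H) * u * (y' : H)⁻¹) * y := by rw [h00]
            _ = u * ((y' : H)⁻¹ * y) := by group
        obtain ⟨w, hw⟩ := pg_exists_order_mul q r hq hr hqr _ _ hcm hd1 (hQq _ hdQ)
          (hu_elt u hu).1 (hu_elt u hu).2
        exact h3 w hw
      have hbij : Function.Bijective (fun y : Q => (⟨_, hmemQ y⟩ : Q)) :=
        Finite.injective_iff_bijective.mp hinj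
      rw [← hbij.prod_comp (fun x : Q => c ((x : H) * u) v)]
      apply Finset.prod_congr rfl
      intro y _
      apply hc_congr
      show (y : H) * u * (y : H)⁻¹ * (u : H)⁻¹ * u = (y : H) * u * (y : H)⁻¹
      group
  have hfinal : (v⁻¹) ^ (Fintype.card Q) = 1 := by
    have e1 := hT
    rw [Finset.prod_congr rfl (fun u _ => hinner u), Finset.prod_mul_distrib, Finset.prod_comm,
      Finset.prod_congr rfl (fun y _ => hB y), Finset.prod_const_one, one_mul,
      Finset.prod_ite_eq' Finset.univ (1 : Subgroup.zpowers z)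
        (fun _ => (v⁻¹) ^ (Fintype.card Q)), if_pos (Finset.mem_univ _)] at e1
    exact e1
  rw [inv_pow, inv_eq_one] at hfinal
  obtain ⟨b, hb⟩ := IsPGroup.iff_card.mp hQ
  rw [← Nat.card_eq_fintype_card, hb] at hfinal
  obtain ⟨i, hi⟩ := hVp v
  have hv1 : (v : H) ^ (q ^ b) = 1 := by
    have h0 := congrArg Subtype.val hfinal
    simpa using h0
  have hord : orderOf (v : H) = 1 := by
    have hd1 := orderOf_dvd_of_pow_eq_one hi
    have hd2 := orderOf_dvd_of_pow_eq_one hv1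
    have hcop : Nat.Coprime (p ^ i) (q ^ b) :=
      Nat.Coprime.pow _ _ ((Nat.coprime_primes hp hq).mpr hpq)
    exact Nat.eq_one_of_dvd_coprimes hcop hd1 hd2
  rw [orderOf_eq_one_iff] at hord
  exact hv (Subtype.ext hord)

/-- Frattini: the index of a normal subgroup divides the order of the normalizer of any of its
Sylow subgroups. -/
theorem pg_frat_index [Finite H] (L : Subgroup H) [L.Normal] (ℓ : ℕ) [Fact ℓ.Prime]
    (S : Sylow ℓ L) :
    L.index ∣ Nat.card (Subgroup.normalizer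
      (((S : Subgroup L).map L.subtype : Subgroup H) : Set H)) := by
  have h1 := Sylow.normalizer_sup_eq_top S
  have h2 : L.relIndex (Subgroup.normalizer
      (((S : Subgroup L).map L.subtype : Subgroup H) : Set H)) = L.index := by
    rw [← Subgroup.relIndex_sup_right, h1, Subgroup.relIndex_top_right]
  rw [← h2]
  exact Subgroup.relIndex_dvd_card _ _

end

end Cfsg.Agent.Lib.Helper7
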